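import Cfsg.Prelude.Def_Local
import Cfsg.Prelude.Def_Balance
import Cfsg.Agent.Lib.GenFitting
import Cfsg.Agent.Lib.Cores
import Cfsg.Agent.FastGrp
import Cfsg.Agent.Prune
set_option linter.all false
open scoped Cfsg.Agent.FastGrp

/-!
# END nodes: from fixed points of automorphisms of `F*(G)` to the cores of the involution centralisers of `G`

`core_eq_bot`: `F*(G)` simple nonabelian, automorphisms of odd order of `F*(G)` are inner, and for `φ ∈ Aut(F*(G))` with
`φ² = 1` the fixed point group has no nontrivial normal subgroup of odd order: then `O(C_G(t)) = 1` for all involutions.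
`locallyBalanced`: the same hypotheses give `IsLocallyBalanced`.
-/

set_option autoImplicit false

namespace Cfsg.Agent.UGT.End.OfFix

open Subgroup Cfsg

variable {G : Type*} [Group G]

/-- The fixed points of `φ` have no nontrivial normal subgroup of odd order. -/
def FixCore (X : Type*) [Group X] : Prop :=
  ∀ φ : MulAut X, φ * φ = 1 → ∀ W : Subgroup X, Odd (Nat.card W) → (∀ w ∈ W, φ w = w) →
    (∀ g, φ g = g → ∀ w ∈ W, g * w * g⁻¹ ∈ W) → W = ⊥

theorem core_comm {t x : G} (hx : x ∈ centralizerPPrimeCore 2 t) : x * t = t * x := by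
  obtain ⟨y, -, rfl⟩ := hx
  exact mem_centralizer_singleton_iff.1 y.2

theorem core_odd [Finite G] (t : G) : Odd (Nat.card (centralizerPPrimeCore 2 t)) := by
  have h1 := Lib.Cores.pPrimeCore_coprime (G := ↥(centralizer ({t} : Set G))) 2
  rw [centralizerPPrimeCore, Subgroup.card_map_of_injective (Subgroup.subtype_injective _)]
  exact Nat.coprime_two_right.mp h1

theorem core_conj_mem {t g x : G} (hg : g * t = t * g) (hx : x ∈ centralizerPPrimeCore 2 t) :
    g * x * g⁻¹ ∈ centralizerPPrimeCore 2 t := by
  obtain ⟨y, hy, rfl⟩ := hx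
  exact ⟨(⟨g, mem_centralizer_singleton_iff.2 hg⟩ * y * ⟨g, mem_centralizer_singleton_iff.2 hg⟩⁻¹ :),
    (Lib.Cores.pPrimeCore_normal 2).conj_mem y hy _, rfl⟩

theorem centralizer_fstar [Finite G] (hs : IsSimpleGroup ↥(generalizedFittingSubgroup G))
    (hna : ¬ IsMulCommutative ↥(generalizedFittingSubgroup G)) {x : G}
    (hx : ∀ y ∈ generalizedFittingSubgroup G, y * x = x * y) : x = 1 := by
  have h1 := Lib.GenFitting.centralizer_genFitting_le (G := G) (mem_centralizer_iff.2 hx)
  have h2 : (⟨x, h1⟩ : ↥(generalizedFittingSubgroup G)) ∈ center ↥(generalizedFittingSubgroup G) :=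
    mem_center_iff.2 fun y => Subtype.ext (hx y y.2)
  rcases hs.eq_bot_or_eq_top_of_normal (center ↥(generalizedFittingSubgroup G)) inferInstance with h | h
  · rw [h, mem_bot] at h2
    exact congrArg Subtype.val h2
  · exact absurd ⟨⟨fun x y => (mem_center_iff.1 (h.symm ▸ mem_top x) y).symm ▸ rfl⟩⟩ hna

/-- **From `F*(G)` to `G`.** -/
theorem core_eq_bot [Finite G] (hs : IsSimpleGroup ↥(generalizedFittingSubgroup G))
    (hna : ¬ IsMulCommutative ↥(generalizedFittingSubgroup G))
    (ho : ∀ α : MulAut ↥(generalizedFittingSubgroup G), Odd (orderOf α) →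
      α ∈ (MulAut.conj : ↥(generalizedFittingSubgroup G) →* _).range)
    (hfix : FixCore ↥(generalizedFittingSubgroup G)) (t : G) (ht : orderOf t = 2) :
    centralizerPPrimeCore 2 t = ⊥ := by
  have hnor : (generalizedFittingSubgroup G).Normal := Lib.GenFitting.genFitting_normal (G := G)
  set F := generalizedFittingSubgroup G with hF
  set R := centralizerPPrimeCore 2 t with hR
  have htt : t * t = 1 := by rw [← pow_two, ← ht, pow_orderOf_eq_one]
  -- `R ≤ F`
  have hRF : R ≤ F := by
    intro r hr
    have hodd : Odd (orderOf (MulAut.conjNormal r : MulAut F)) := by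
      have h1 : orderOf (MulAut.conjNormal r : MulAut F) ∣ Nat.card R := by
        refine (orderOf_map_dvd MulAut.conjNormal r).trans ?_
        have h2 := orderOf_dvd_natCard (⟨r, hr⟩ : R)
        rwa [Subgroup.orderOf_mk] at h2
      exact (core_odd t).of_dvd_nat h1
    obtain ⟨x, hx⟩ := ho _ hodd
    have h3 : (x : G)⁻¹ * r = 1 := by
      refine centralizer_fstar hs hna fun y hy => ?_
      have h4 := congrArg Subtype.val (DFunLike.congr_fun hx ⟨y, hy⟩)
      rw [MulAut.conj_apply, MulAut.conjNormal_apply] at h4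
      have h5 : (x : G) * y * (x : G)⁻¹ = r * y * r⁻¹ := h4
      calc y * ((x : G)⁻¹ * r) = (x : G)⁻¹ * ((x : G) * y * (x : G)⁻¹) * r := by group
        _ = (x : G)⁻¹ * r * y := by rw [h5]; group
    rw [inv_mul_eq_one] at h3
    rw [← h3]
    exact x.2
  -- `W = R` in `F`
  have hW : R.subgroupOf F = ⊥ := by
    refine hfix (MulAut.conjNormal t) (by rw [← map_mul, htt, map_one]) _ ?_ ?_ ?_
    · rw [Nat.card_congr (Subgroup.subgroupOfEquivOfLe hRF).toEquiv]
      exact core_odd t
    · intro w hw
      apply Subtype.ext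
      rw [MulAut.conjNormal_apply, ← core_comm (mem_subgroupOf.1 hw), mul_inv_cancel_right]
    · intro g hg w hw
      have h1 := congrArg Subtype.val hg
      rw [MulAut.conjNormal_apply, mul_inv_eq_iff_eq_mul] at h1
      exact core_conj_mem h1.symm hw
  rw [Subgroup.eq_bot_iff_forall]
  intro r hr
  have h1 : (⟨r, hRF hr⟩ : F) ∈ R.subgroupOf F := hr
  rw [hW, mem_bot] at h1
  exact congrArg Subtype.val h1

end Cfsg.Agent.UGT.End.OfFix

private theorem dce_e970e3b6abe5 : _root_.True := by
  try have : _root_.True := by simp only [_root_.Cfsg.centralizerPPrimeCore.eq_1]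
  exact _root_.True.intro
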