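import Cfsg.Agent.TypeM.OuterMcL
import Cfsg.Agent.TypeM.FactsAut
import Cfsg.Agent.UGT.End.OfFix
import Cfsg.Agent.FastGrp
import Cfsg.Agent.Prune
set_option linter.all false

section
prune_inst 0x7f00000000000000000000000000000000000000000000000000000000000000000000000000000000000000000000000000000000000000000000000000000000000000000000000000000000000000003fffffffffffffffffffffffffffbeffbdffffffff

-- part: TypeM/OuterInst
section
set_option linter.all false
open scoped Cfsg.Agent.FastGrp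

/-!
# Automorphisms of `McL` and `Ly`: the two inputs `ExPerm`, `EvenInner` of `OuterMcL`
-/

set_option autoImplicit false

namespace Cfsg.Agent.TypeM.OuterInst

open Subgroup Equiv Cfsg.Agent.SporRec.TwoAn Cfsg.Agent.TypeM.Two Cfsg.Agent.TypeM.FactsAut Cfsg.Agent.TypeM.OuterMcL

variable {n : ℕ} {M : Type*} [Group M]

/-- the relation between `Compat` and `resAut` -/
theorem compat_iff (L : MT n M) {φ : MulAut M} (h : φ L.t = L.t) {σ : Perm (Fin n)} :
    Compat L φ σ ↔ ∀ g, L.K.π (resAut L.t φ h g) = σ * L.K.π g * σ⁻¹ := by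
  constructor
  · intro hc g
    exact hc g _ rfl
  · intro hc g k hk
    rw [← hc g, show k = resAut L.t φ h g from Subtype.ext hk]

theorem exPerm (L : MT n M) (hn : 7 ≤ n) : ExPerm L := by
  intro φ h
  obtain ⟨σ, hσ⟩ := exists_sigma L hn h
  exact ⟨σ, (compat_iff L h).2 hσ⟩

theorem evenInner (L : MT n M) (hn : n = 8 ∨ n = 11) (hG : Gen L) : EvenInner L := by
  intro φ σ h hσ hs
  obtain ⟨c, -, hc⟩ := exists_conj_of_even L hn hG h ((compat_iff L h).1 hσ) (Perm.mem_alternatingGroup.2 hs)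
  exact ⟨c, hc.symm⟩

/-- the third property (o3) -/
theorem mul_mem_range (L : MT n M) (hn : n = 8 ∨ n = 11) (hG : Gen L) {φ ψ : MulAut M}
    (hφ : φ ∉ (MulAut.conj : M →* MulAut M).range) (hψ : ψ ∉ (MulAut.conj : M →* MulAut M).range) :
    φ * ψ ∈ (MulAut.conj : M →* MulAut M).range := by
  obtain ⟨g, hg⟩ := mul_inner L hn hG (fun g h => hφ ⟨g, h.symm⟩) (fun g h => hψ ⟨g, h.symm⟩)
  exact ⟨g, hg.symm⟩

end Cfsg.Agent.TypeM.OuterInst
end

-- part: UGT/End/McLOuter
section
set_option linter.all false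
open scoped Cfsg.Agent.FastGrp

-- part: UGT/End/McLPerm
section
/-!
# Outer involutory automorphisms of groups with involution centraliser `2.A₈`: permutations

* `sign_of_sq_fpf`: `τ² ` fixed point free of square one on eight points: `τ` is even.
* `exists_std`: an odd involution of `S₈` is conjugate to `(0 1)` or to `(0 1)(2 3)(4 5)`.
* `eq_one_of_comm`: elements of odd order in the centraliser of `(0 1)(2 3)(4 5)`.
* `fix_one`, `fix_two`, `fix_v`: some fixed points of an automorphism of `2.A₈` acting as `(0 1)(2 3)(4 5)`.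
-/

set_option autoImplicit false
set_option maxRecDepth 100000
set_option Elab.async false

namespace Cfsg.Agent.UGT.End.McLPerm

open Equiv Cfsg.Agent.SporRec.TwoAn Cfsg.Agent.TypeM.CoverAut

/-- `(0 1)(2 3)(4 5)` -/
def s0 : Perm (Fin 8) := swap (0 : Fin 8) 1 * swap (2 : Fin 8) 3 * swap (4 : Fin 8) 5

/-- `(0 1)(2 3)` -/
def s1 : Perm (Fin 8) := swap (0 : Fin 8) 1 * swap (2 : Fin 8) 3

/-- `(2 3)(4 5)` -/
def s2 : Perm (Fin 8) := swap (2 : Fin 8) 3 * swap (4 : Fin 8) 5

/-- `(0 2)(1 3)(4 5)(6 7)` -/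
def v0 : Perm (Fin 8) := swap (0 : Fin 8) 2 * swap (1 : Fin 8) 3 * (swap (4 : Fin 8) 5 * swap (6 : Fin 8) 7)

theorem sign_s0 : Perm.sign s0 = -1 := by decide

/-- A permutation of eight points whose square is a fixed point free involution is even. -/
theorem sign_of_sq_fpf {τ : Perm (Fin 8)} (h4 : (τ * τ) * (τ * τ) = 1) (h : ∀ i, (τ * τ) i ≠ i) :
    Perm.sign τ = 1 := by
  have hord : orderOf τ ∣ 4 := orderOf_dvd_of_pow_eq_one (by
    rw [show (4 : ℕ) = 2 + 2 from rfl, pow_add, pow_two]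
    exact h4)
  have hall : ∀ n ∈ τ.cycleType, n = 4 := by
    intro n hn
    have h1 : n ∣ 4 := (Perm.dvd_of_mem_cycleType hn).trans hord
    have h2 : 2 ≤ n := Perm.two_le_of_mem_cycleType hn
    have h3 : n ≤ 4 := Nat.le_of_dvd (by norm_num) h1
    interval_cases n
    · exfalso
      rw [Perm.cycleType_def, Multiset.mem_map] at hn
      obtain ⟨c, hc, hc2⟩ := hn
      rw [Finset.mem_val, Perm.mem_cycleFactorsFinset_iff] at hc
      obtain ⟨x, y, hxy, rfl⟩ := Perm.card_support_eq_two.1 hc2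
      have hx := hc.2 x (by rw [Perm.mem_support, swap_apply_left]; exact hxy.symm)
      have hy := hc.2 y (by rw [Perm.mem_support, swap_apply_right]; exact hxy)
      rw [swap_apply_left] at hx
      rw [swap_apply_right] at hy
      exact h x (by rw [Perm.mul_apply, ← hx, ← hy])
    · omega
    · rfl
  have hrep := Multiset.eq_replicate_card.2 hall
  have hsupp : τ.support.card = 8 := by
    have h4 : τ.support = Finset.univ := by
      ext i
      simp only [Finset.mem_univ, iff_true, Perm.mem_support]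
      intro hi
      exact h i (by rw [Perm.mul_apply, hi, hi])
    rw [h4, Finset.card_univ, Fintype.card_fin]
  have hsum := τ.sum_cycleType
  rw [hsupp] at hsum
  have hc2 : Multiset.card τ.cycleType = 2 := by
    rw [hrep, Multiset.sum_replicate, smul_eq_mul] at hsum
    omega
  rw [Perm.sign_of_cycleType, hsum, hc2]
  decide

/-- An odd involution of `S₈` is conjugate to `(0 1)` or to `(0 1)(2 3)(4 5)`. -/
theorem exists_std {σ : Perm (Fin 8)} (h2 : σ * σ = 1) (hs : Perm.sign σ = -1) :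
    ∃ ρ : Perm (Fin 8), ρ * σ * ρ⁻¹ = swap (0 : Fin 8) 1 ∨ ρ * σ * ρ⁻¹ = s0 := by
  have hsum := σ.sum_cycleType
  have h1 : σ ≠ 1 := by
    rintro rfl
    rw [map_one] at hs
    exact absurd hs (by decide)
  have ho : orderOf σ = 2 := orderOf_eq_prime (by rw [pow_two, h2]) h1
  obtain ⟨n, hn⟩ := Perm.cycleType_prime_order (σ := σ) (by rw [ho]; exact Nat.prime_two)
  rw [ho] at hn
  rw [hn, Multiset.sum_replicate, smul_eq_mul] at hsum
  have hle : σ.support.card ≤ 8 := by
    have := Finset.card_le_univ σ.support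
    rwa [Fintype.card_fin] at this
  have key : ∀ τ : Perm (Fin 8), τ * τ = 1 → τ.support.card = 2 * (n + 1) → ∃ ρ : Perm (Fin 8), ρ * σ * ρ⁻¹ = τ := by
    intro τ hτ hτc
    have ct := Cfsg.Agent.SporRec.LyType.cycleType_of_involution hτ (k := n + 1) hτc
    exact isConj_iff.1 ((Perm.isConj_iff_cycleType_eq).2 (hn.trans ct.symm))
  rw [Perm.sign_of_cycleType, hn, Multiset.sum_replicate, Multiset.card_replicate, smul_eq_mul] at hs
  have hn4 : n < 4 := by omega
  interval_cases n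
  · obtain ⟨ρ, hρ⟩ := key (swap (0 : Fin 8) 1) (by decide) (by decide)
    exact ⟨ρ, Or.inl hρ⟩
  · exact absurd hs (by decide)
  · obtain ⟨ρ, hρ⟩ := key s0 (by decide) (by decide)
    exact ⟨ρ, Or.inr hρ⟩
  · exact absurd hs (by decide)

theorem chk : ∀ a b : Fin 8, (s1 * (swap a (s0 a) * swap b (s0 b))) * (s1 * (swap a (s0 a) * swap b (s0 b))) = 1 ∧
    (s2 * (swap a (s0 a) * swap b (s0 b))) * (s2 * (swap a (s0 a) * swap b (s0 b))) = 1 := by decide +kernel

/-- the commutators of `(0 1)(2 3)`, `(2 3)(4 5)` with elements of the centraliser of `(0 1)(2 3)(4 5)` -/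
theorem comm_sq {r : Perm (Fin 8)} (h : r * s0 = s0 * r) :
    (s1 * (r * s1 * r⁻¹)) * (s1 * (r * s1 * r⁻¹)) = 1 ∧ (s2 * (r * s2 * r⁻¹)) * (s2 * (r * s2 * r⁻¹)) = 1 := by
  have h' : ∀ i, r (s0 i) = s0 (r i) := fun i => by rw [← Perm.mul_apply, h, Perm.mul_apply]
  have e1 : r * s1 * r⁻¹ = swap (r 0) (s0 (r 0)) * swap (r 2) (s0 (r 2)) := by
    rw [s1, conj_swap_swap, ← h' 0, ← h' 2]
    rfl
  have e2 : r * s2 * r⁻¹ = swap (r 2) (s0 (r 2)) * swap (r 4) (s0 (r 4)) := by
    rw [s2, conj_swap_swap, ← h' 2, ← h' 4]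
    rfl
  rw [e1, e2]
  exact ⟨(chk _ _).1, (chk _ _).2⟩

/-- If `r` commutes with the transposition `(a b)`, `r²` fixes `a` and `b`. -/
theorem sq_of_comm_swap {r : Perm (Fin 8)} {a b : Fin 8} (hab : a ≠ b) (h : r * swap a b = swap a b * r) :
    r (r a) = a ∧ r (r b) = b := by
  have ha : r b = swap a b (r a) := by
    have := congrArg (fun f : Perm (Fin 8) => f a) h
    simpa only [Perm.mul_apply, swap_apply_left] using this
  by_cases h1 : r a = a
  · rw [h1, swap_apply_left] at ha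
    exact ⟨by rw [h1, h1], by rw [ha, ha]⟩
  by_cases h2 : r a = b
  · rw [h2, swap_apply_right] at ha
    exact ⟨by rw [h2, ha], by rw [ha, h2]⟩
  · rw [swap_apply_of_ne_of_ne h1 h2] at ha
    exact absurd (r.injective ha).symm hab

/-- Elements of odd order which commute with `(0 1)(2 3)(4 5)`, `(0 1)(2 3)`, `(2 3)(4 5)` are trivial. -/
theorem eq_one_of_comm {r : Perm (Fin 8)} {m : ℕ} (hm : Odd m) (hr : r ^ m = 1) (h0 : r * s0 = s0 * r)
    (h1 : r * s1 = s1 * r) (h2 : r * s2 = s2 * r) : r = 1 := by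
  have e45 : (swap (4 : Fin 8) 5 : Perm (Fin 8)) = s0 * s1 := by decide
  have e01 : (swap (0 : Fin 8) 1 : Perm (Fin 8)) = s0 * s2 := by decide
  have e23 : (swap (2 : Fin 8) 3 : Perm (Fin 8)) = s0 * s1 * (s0 * s2) * s0 := by decide
  have c45 : r * swap (4 : Fin 8) 5 = swap (4 : Fin 8) 5 * r := by
    rw [e45, ← mul_assoc, h0, mul_assoc, h1, ← mul_assoc]
  have c01 : r * swap (0 : Fin 8) 1 = swap (0 : Fin 8) 1 * r := by
    rw [e01, ← mul_assoc, h0, mul_assoc, h2, ← mul_assoc]
  have c23 : r * swap (2 : Fin 8) 3 = swap (2 : Fin 8) 3 * r := by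
    rw [e23, ← e45, ← e01]
    calc r * (swap (4 : Fin 8) 5 * swap (0 : Fin 8) 1 * s0) = (r * swap (4 : Fin 8) 5) * swap (0 : Fin 8) 1 * s0 := by group
      _ = swap (4 : Fin 8) 5 * (r * swap (0 : Fin 8) 1) * s0 := by rw [c45]; group
      _ = swap (4 : Fin 8) 5 * swap (0 : Fin 8) 1 * (r * s0) := by rw [c01]; group
      _ = _ := by rw [h0]; group
  have a45 := sq_of_comm_swap (by decide) c45
  have a01 := sq_of_comm_swap (by decide) c01
  have a23 := sq_of_comm_swap (by decide) c23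
  have hfix : ∀ a : Fin 8, s0 a = a → a = 6 ∨ a = 7 := by decide
  have h0' : ∀ i, r (s0 i) = s0 (r i) := fun i => by rw [← Perm.mul_apply, h0, Perm.mul_apply]
  have h6 := hfix (r 6) (by rw [← h0']; rfl)
  have h7 := hfix (r 7) (by rw [← h0']; rfl)
  have a6 : r (r 6) = 6 ∧ r (r 7) = 7 := by
    rcases h6 with h6 | h6
    · rcases h7 with h7 | h7
      · exact absurd (r.injective (h6.trans h7.symm)) (by decide)
      · exact ⟨by rw [h6, h6], by rw [h7, h7]⟩
    · rcases h7 with h7 | h7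
      · exact ⟨by rw [h6, h7], by rw [h7, h6]⟩
      · exact absurd (r.injective (h6.trans h7.symm)) (by decide)
  have hrr : r * r = 1 := by
    have : ∀ i, (r * r) i = i := by
      intro i
      rw [Perm.mul_apply]
      fin_cases i
      exacts [a01.1, a01.2, a23.1, a23.2, a45.1, a45.2, a6.1, a6.2]
    exact Equiv.ext this
  obtain ⟨k, rfl⟩ := hm
  rw [pow_succ, pow_mul, pow_two, hrr, one_pow, one_mul] at hr
  exact hr

/-! ### fixed points in the cover -/

section cover

variable {C : Type*} [Group C] (K : Cover (Fin 8) C) {e : MulAut C}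

/-- An automorphism acting as `(0 1)(2 3)(4 5)` fixes the lifts of `(0 1)(2 3)`. -/
theorem fix_one (he : ∀ g, K.π (e g) = s0 * K.π g * s0⁻¹) {g : C} (hg : K.π g = s1) : e g = g := by
  rw [eq_conj_dbl K (by norm_num) he (a := 0) (b := 1) (c := 2) (d := 3) (by decide) (by decide) (by decide)
    (by decide) (by decide) (w := g) hg (by rw [hg]; rfl) (by rw [hg]; rfl) (by rw [hg]; rfl) (by rw [hg]; rfl)]
  group

/-- An automorphism acting as `(0 1)(2 3)(4 5)` fixes the lifts of `(2 3)(4 5)`. -/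
theorem fix_two (he : ∀ g, K.π (e g) = s0 * K.π g * s0⁻¹) {g : C} (hg : K.π g = s2) : e g = g := by
  rw [eq_conj_dbl K (by norm_num) he (a := 2) (b := 3) (c := 4) (d := 5) (by decide) (by decide) (by decide)
    (by decide) (by decide) (w := g) hg (by rw [hg]; rfl) (by rw [hg]; rfl) (by rw [hg]; rfl) (by rw [hg]; rfl)]
  group

/-- An automorphism acting as `(0 1)(2 3)(4 5)` fixes the lifts of `(0 2)(1 3)(4 5)(6 7)`. -/
theorem fix_v (he : ∀ g, K.π (e g) = s0 * K.π g * s0⁻¹) {v : C} (hv : K.π v = v0) : e v = v := by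
  obtain ⟨a, ha⟩ := K.exists_lift (Cover.swap_mul_swap_mem (0 : Fin 8) 2 1 3 (by decide) (by decide))
  obtain ⟨b, hb⟩ := K.exists_lift (Cover.swap_mul_swap_mem (4 : Fin 8) 5 6 7 (by decide) (by decide))
  obtain ⟨w, hw⟩ := K.exists_lift (Cover.swap_mul_swap_mem (0 : Fin 8) 1 2 3 (by decide) (by decide))
  obtain ⟨u, hu⟩ := K.exists_lift (Cover.swap_mul_swap_mem (0 : Fin 8) 1 4 5 (by decide) (by decide))
  have ez : e K.z = K.z := map_z K (by rw [Fintype.card_fin]; norm_num) e
  -- `e a = a z`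
  have e1 : e a = a * K.z := by
    rw [eq_conj_dbl K (by norm_num) he (a := 0) (b := 2) (c := 1) (d := 3) (by decide) (by decide) (by decide)
      (by decide) (by decide) (w := w) ha (by rw [hw]; rfl) (by rw [hw]; rfl) (by rw [hw]; rfl) (by rw [hw]; rfl)]
    have h5 : a * w = w * a * K.z := K.anticomm (a := 0) (b := 1) (c := 2) (d := 3) (by decide) (by decide) (by decide)
      (by decide) (by decide) (by decide) hw ha
    have h6 : w * a = a * w * K.z := by rw [h5, mul_assoc, K.z_mul_z, mul_one]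
    rw [h6, mul_assoc a w, K.z_comm w]
    group
  -- `e b = b z`
  have e2 : e b = b * K.z := by
    rw [eq_conj_dbl K (by norm_num) he (a := 4) (b := 5) (c := 6) (d := 7) (by decide) (by decide) (by decide)
      (by decide) (by decide) (w := u) hb (by rw [hu]; rfl) (by rw [hu]; rfl) (by rw [hu]; rfl) (by rw [hu]; rfl)]
    have huu : u * u = K.z := K.dbl 0 1 4 5 (by decide) (by decide) (by decide) (by decide) (by decide) (by decide) u hu
    have hbb : b * b = K.z := K.dbl 4 5 6 7 (by decide) (by decide) (by decide) (by decide) (by decide) (by decide) b hb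
    have hub : (u * b) * (u * b) = K.z := by
      refine K.dbl 0 1 6 7 (by decide) (by decide) (by decide) (by decide) (by decide) (by decide) _ ?_
      rw [map_mul, hu, hb]
      decide
    have hui : u⁻¹ = u * K.z := by rw [inv_eq_iff_mul_eq_one, ← mul_assoc, huu, K.z_mul_z]
    have hbi : b⁻¹ = b * K.z := by rw [inv_eq_iff_mul_eq_one, ← mul_assoc, hbb, K.z_mul_z]
    calc u * b * u⁻¹ = (u * b * (u * b)) * b⁻¹ * K.z := by rw [hui]; group
      _ = K.z * (b * K.z) * K.z := by rw [hub, hbi]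
      _ = K.z * b := by rw [mul_assoc, mul_assoc b, K.z_mul_z, mul_one]
      _ = b * K.z := (K.z_comm b).symm
  have e3 : e (a * b) = a * b := by
    rw [map_mul, e1, e2]
    calc a * K.z * (b * K.z) = a * (K.z * b) * K.z := by group
      _ = a * b * (K.z * K.z) := by rw [← K.z_comm b]; group
      _ = a * b := by rw [K.z_mul_z, mul_one]
  have h7 : K.π v = K.π (a * b) := by rw [hv, map_mul, ha, hb]; rfl
  rcases K.lift_eq h7 with h | h
  · rw [h, e3]
  · rw [h, map_mul, e3, ez]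

end cover

end Cfsg.Agent.UGT.End.McLPerm
end

-- part: UGT/End/McLOuter
section
/-!
# Outer involutory automorphisms of groups with involution centraliser `2.A₈`

`L : MT 8 G` with `Gen L` (`⟨C(t), C(u)⟩ = G`): for `φ : MulAut G` with `φ² = 1`, a subgroup `W` of odd order of the
fixed point group of `φ`, normalised by the fixed point group, is trivial.
-/

set_option autoImplicit false
set_option maxRecDepth 100000

namespace Cfsg.Agent.UGT.End.McLOuter

open Subgroup Equiv Cfsg.Agent.SporRec.TwoAn Cfsg.Agent.TypeM.Two Cfsg.Agent.TypeM.OuterMcL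
open Cfsg.Agent.TypeM.CoverAut Cfsg.Agent.TypeM.FactsAut
open Cfsg.Agent.UGT.End.McLPerm

variable {G : Type*} [Group G]

/-- reindexing of the eight points -/
def reidx (L : MT 8 G) (ρ : Perm (Fin 8)) : MT 8 G where
  t := L.t
  K := L.K.congr ρ
  hz := L.hz
  one := L.one

theorem compat_reidx {L : MT 8 G} {φ : MulAut G} {σ : Perm (Fin 8)} (h : Compat L φ σ) (ρ : Perm (Fin 8)) :
    Compat (reidx L ρ) φ (ρ * σ * ρ⁻¹) := by
  intro g k hk
  have h1 : L.K.π k = σ * L.K.π g * σ⁻¹ := h g k hk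
  refine (congr_π L.K ρ k).trans ?_
  refine Eq.trans ?_ (congrArg (fun x => ρ * σ * ρ⁻¹ * x * (ρ * σ * ρ⁻¹)⁻¹) (congr_π L.K ρ g).symm)
  show ρ * L.K.π k * ρ⁻¹ = ρ * σ * ρ⁻¹ * (ρ * L.K.π g * ρ⁻¹) * (ρ * σ * ρ⁻¹)⁻¹
  rw [h1]
  group

/-- the permutation is unique -/
theorem compat_unique {L : MT 8 G} {φ : MulAut G} (hφ : φ L.t = L.t) {σ τ : Perm (Fin 8)} (h : Compat L φ σ)
    (h' : Compat L φ τ) : σ = τ :=
  perm_unique L.K (by norm_num) (e := resAut L.t φ hφ) (fun g => h g _ rfl) (fun g => h' g _ rfl)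

theorem compat_conj {L : MT 8 G} (c : centralizer ({L.t} : Set G)) : Compat L (MulAut.conj (c : G)) (L.K.π c) := by
  intro g k hk
  have h1 : k = c * g * c⁻¹ := Subtype.ext hk
  rw [h1, map_mul, map_mul, map_inv]

theorem compat_one {L : MT 8 G} : Compat L 1 1 := by
  intro g k hk
  have h1 : k = g := Subtype.ext hk
  rw [h1, inv_one, mul_one, one_mul]

/-- An inner automorphism which fixes `t` acts as an even permutation. -/
theorem sign_of_inner {L : MT 8 G} {c : G} (hc : MulAut.conj c L.t = L.t) {σ : Perm (Fin 8)}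
    (h : Compat L (MulAut.conj c) σ) : Perm.sign σ = 1 := by
  have hcm : c ∈ centralizer ({L.t} : Set G) := by
    rw [mem_centralizer_singleton_iff]
    rwa [MulAut.conj_apply, mul_inv_eq_iff_eq_mul] at hc
  have h1 := compat_unique hc h (compat_conj ⟨c, hcm⟩)
  rw [h1]
  exact Perm.mem_alternatingGroup.1 (L.K.mem_alternating _)

/-- **Principle (P).** An automorphism `χ` fixing `t` whose square is the conjugation by an involution `≠ t` acts as an
even permutation. -/
theorem sign_of_sq {L : MT 8 G} {χ : MulAut G} (hχ : χ L.t = L.t) {τ : Perm (Fin 8)} (h : Compat L χ τ) {u : G}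
    (hu : u * u = 1) (hu1 : u ≠ 1) (hut : u ≠ L.t) (hsq : χ * χ = MulAut.conj u) : Perm.sign τ = 1 := by
  have h1 : (χ * χ) L.t = L.t := by rw [MulAut.mul_apply, hχ, hχ]
  have hum : u ∈ centralizer ({L.t} : Set G) := by
    rw [hsq, MulAut.conj_apply, mul_inv_eq_iff_eq_mul] at h1
    exact mem_centralizer_singleton_iff.2 h1
  have h2 : τ * τ = L.K.π ⟨u, hum⟩ := by
    refine compat_unique h1 (h.mul h hχ) ?_
    rw [hsq]
    exact compat_conj ⟨u, hum⟩
  refine sign_of_sq_fpf ?_ ?_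
  · rw [h2, ← map_mul, show (⟨u, hum⟩ * ⟨u, hum⟩ : centralizer ({L.t} : Set G)) = 1 from Subtype.ext hu, map_one]
  · intro i
    rw [h2]
    exact fpf L (g := ⟨u, hum⟩) hu hu1 hut i

/-- the involution `v` over `(0 2)(1 3)(4 5)(6 7)` -/
theorem exists_v (L : MT 8 G) {φ : MulAut G} (hφ : φ L.t = L.t) (h : Compat L φ s0) :
    ∃ v : G, v * v = 1 ∧ v ≠ 1 ∧ v ≠ L.t ∧ v * L.t = L.t * v ∧ φ v = v := by
  obtain ⟨v, hv⟩ := L.K.exists_lift (σ := v0) (by rw [Perm.mem_alternatingGroup]; decide)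
  have hv2 : v * v = 1 := L.K.sq_eq_one_iff.2 (by rw [hv]; decide)
  have hv1 : L.K.π v ≠ 1 := by rw [hv]; decide
  refine ⟨v, congrArg Subtype.val hv2, ?_, ?_, L.mem_iff.1 v.2, ?_⟩
  · intro h
    apply hv1
    rw [show v = 1 from Subtype.ext h, map_one]
  · intro h
    apply hv1
    rw [show v = L.K.z from Subtype.ext (h.trans L.hz.symm), L.K.π_z]
  · exact congrArg Subtype.val (fix_v L.K (e := resAut L.t φ hφ) (fun g => h g _ rfl) hv)

/-- An automorphism of type `2³` does not have square `conj t`. -/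
theorem not_sq (L : MT 8 G) {ψ : MulAut G} (hψ : ψ L.t = L.t) (h : Compat L ψ s0)
    (hE : ExPerm L) (hI : EvenInner L) (hsq : ψ * ψ = MulAut.conj L.t) : False := by
  obtain ⟨v, hv, hv1, hvt, -, hfix⟩ := exists_v L hψ h
  obtain ⟨g, hg⟩ := L.conj_of_involutions hv hv1 L.t_mul_t L.t_ne
  set χ : MulAut G := MulAut.conj g * ψ * MulAut.conj g⁻¹ with hχ
  have hgt : g⁻¹ * L.t * g = v := by rw [← hg]; group
  have hχt : χ L.t = L.t := by
    rw [hχ, MulAut.mul_apply, MulAut.mul_apply, MulAut.conj_apply g⁻¹, inv_inv, hgt, hfix, MulAut.conj_apply, hg]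
  obtain ⟨τ, hτ⟩ := hE χ hχt
  have hsq' : χ * χ = MulAut.conj (g * L.t * g⁻¹) := by
    have h1 : MulAut.conj g⁻¹ * MulAut.conj g = 1 := by rw [← map_mul, inv_mul_cancel, map_one]
    calc χ * χ = MulAut.conj g * ψ * (MulAut.conj g⁻¹ * MulAut.conj g) * ψ * MulAut.conj g⁻¹ := by rw [hχ]; group
      _ = MulAut.conj g * (ψ * ψ) * MulAut.conj g⁻¹ := by rw [h1]; group
      _ = _ := by rw [hsq, ← map_mul, ← map_mul]
  have h2 := sign_of_sq hχt hτ (u := g * L.t * g⁻¹) (by
      calc g * L.t * g⁻¹ * (g * L.t * g⁻¹) = g * (L.t * L.t) * g⁻¹ := by group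
        _ = 1 := by rw [L.t_mul_t]; group)
    (fun h3 => L.t_ne (by
      rw [mul_inv_eq_one, mul_eq_left] at h3
      exact h3))
    (fun h3 => hvt (by
      rw [← hgt]
      nth_rewrite 1 [← h3]
      group)) hsq'
  obtain ⟨c, hc⟩ := hI χ τ hχt hτ h2
  -- `ψ` is inner
  have h3 : ψ = MulAut.conj (g⁻¹ * c * g) := by
    have h1 : MulAut.conj g⁻¹ * MulAut.conj g = 1 := by rw [← map_mul, inv_mul_cancel, map_one]
    calc ψ = (MulAut.conj g⁻¹ * MulAut.conj g) * ψ * (MulAut.conj g⁻¹ * MulAut.conj g) := by rw [h1]; group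
      _ = MulAut.conj g⁻¹ * χ * MulAut.conj g := by rw [hχ]; group
      _ = _ := by rw [← hc, ← map_mul, ← map_mul]
  rw [h3] at hψ h
  have h4 := sign_of_inner hψ h
  rw [sign_s0] at h4
  exact absurd h4 (by decide)

/-- **Type.** An outer automorphism `φ` with `φ² = 1`, fixing `t`, acts as `(0 1)(2 3)(4 5)`. -/
theorem exists_type (L : MT 8 G) (hI : ∀ L' : MT 8 G, L'.t = L.t → EvenInner L') {φ : MulAut G} (hφ : φ * φ = 1)
    (hout : φ ∉ (MulAut.conj : G →* MulAut G).range) (ht : φ L.t = L.t) :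
    ∃ L' : MT 8 G, L'.t = L.t ∧ Compat L' φ s0 := by
  have hE : ∀ L' : MT 8 G, ExPerm L' := fun L' => Cfsg.Agent.TypeM.OuterInst.exPerm L' (by norm_num)
  obtain ⟨σ, hσ⟩ := hE L φ ht
  have hs : Perm.sign σ = -1 := by
    rcases Int.units_eq_one_or (Perm.sign σ) with h | h
    · exact absurd (hI L rfl φ σ ht hσ h) hout
    · exact h
  have h2 : σ * σ = 1 := by
    refine compat_unique (L := L) (φ := φ * φ) (by rw [MulAut.mul_apply, ht, ht]) (hσ.mul hσ ht) ?_
    rw [hφ]
    exact compat_one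
  obtain ⟨ρ, hρ | hρ⟩ := exists_std h2 hs
  · -- a transposition
    exfalso
    have hc := compat_reidx hσ ρ
    rw [hρ] at hc
    set L' := reidx L ρ with hL'
    have ht' : φ L'.t = L'.t := ht
    obtain ⟨g, hg⟩ := L'.K.exists_lift (σ := s2) (by rw [Perm.mem_alternatingGroup]; decide)
    have hgg : g * g = L'.K.z := L'.K.dbl 2 3 4 5 (by decide) (by decide) (by decide) (by decide) (by decide) (by decide)
      g hg
    have hfix : φ g = g := by
      have h3 := eq_conj_dbl L'.K (by norm_num) (e := resAut L'.t φ ht') (fun g => hc g _ rfl) (a := 2) (b := 3)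
        (c := 4) (d := 5) (by decide) (by decide) (by decide) (by decide) (by decide) (w := 1) hg
        (by rw [map_one]; rfl) (by rw [map_one]; rfl) (by rw [map_one]; rfl) (by rw [map_one]; rfl)
      rw [one_mul, inv_one, mul_one] at h3
      exact congrArg Subtype.val h3
    have hgt : MulAut.conj (g : G) L'.t = L'.t := by
      rw [MulAut.conj_apply, L'.mem_iff.1 g.2, mul_inv_cancel_right]
    refine not_sq L' (ψ := MulAut.conj (g : G) * φ) ?_ ?_ (hE L') (hI L' rfl) ?_
    · rw [MulAut.mul_apply, ht', hgt]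
    · have h4 : L'.K.π g * swap (0 : Fin 8) 1 = s0 := by rw [hg]; decide
      rw [← h4]
      exact (compat_conj g).mul hc ht'
    · have h5 : φ * MulAut.conj (g : G) = MulAut.conj (g : G) * φ := by
        ext w
        simp only [MulAut.mul_apply, MulAut.conj_apply, map_mul, map_inv, hfix]
      calc MulAut.conj (g : G) * φ * (MulAut.conj (g : G) * φ)
          = MulAut.conj (g : G) * (φ * MulAut.conj (g : G)) * φ := by group
        _ = MulAut.conj (g : G) * MulAut.conj (g : G) * (φ * φ) := by rw [h5]; group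
        _ = MulAut.conj L'.t := by
          rw [hφ, mul_one, ← map_mul]
          exact congrArg MulAut.conj ((congrArg Subtype.val hgg).trans L'.hz)
  · exact ⟨reidx L ρ, rfl, by
      have := compat_reidx hσ ρ
      rwa [hρ] at this⟩

/-- **Fixed points.** -/
theorem cent_trivial (L : MT 8 G) {φ : MulAut G} (ht : φ L.t = L.t) (h : Compat L φ s0) {W : Subgroup G}
    (hodd : Odd (Nat.card W)) (hW : ∀ w ∈ W, φ w = w) (hn : ∀ g, φ g = g → ∀ w ∈ W, g * w * g⁻¹ ∈ W) :
    ∀ w ∈ W, w * L.t = L.t * w → w = 1 := by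
  intro w hw hwt
  have hpow : ∀ x ∈ W, x ^ Nat.card W = 1 := fun x hx => by
    have := pow_card_eq_one' (x := (⟨x, hx⟩ : W))
    exact congrArg Subtype.val this
  set w' : centralizer ({L.t} : Set G) := ⟨w, L.mem_iff.2 hwt⟩ with hw'
  set r := L.K.π w' with hr
  have hpow' : ∀ x : centralizer ({L.t} : Set G), (x : G) ∈ W → L.K.π x ^ Nat.card W = 1 := fun x hx => by
    rw [← map_pow, show x ^ Nat.card W = 1 from Subtype.ext (by
      rw [Subgroup.coe_pow]; exact hpow _ hx), map_one]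
  have h0 : r * s0 = s0 * r := by
    have h1 := h w' w' (hW w hw).symm
    rw [eq_mul_inv_iff_mul_eq] at h1
    exact h1
  have step : ∀ (g : centralizer ({L.t} : Set G)) (s : Perm (Fin 8)), L.K.π g = s → s * s = 1 → φ g = g →
      (s * (r * s * r⁻¹)) * (s * (r * s * r⁻¹)) = 1 → r * s = s * r := by
    intro g s hg hss hfix hsq
    have hsi : s⁻¹ = s := inv_eq_of_mul_eq_one_left hss
    -- `x = g w g⁻¹ w⁻¹`
    have hx : ((g * w' * g⁻¹ * w'⁻¹ : centralizer ({L.t} : Set G)) : G) ∈ W := by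
      show (g : G) * w * (g : G)⁻¹ * w⁻¹ ∈ W
      exact W.mul_mem (hn g hfix w hw) (W.inv_mem hw)
    have h1 := hpow' _ hx
    have h2 : L.K.π (g * w' * g⁻¹ * w'⁻¹) = s * (r * s * r⁻¹) := by
      rw [map_mul, map_mul, map_mul, map_inv, map_inv, hg, hsi, ← hr]
      group
    rw [h2] at h1
    obtain ⟨k, hk⟩ := hodd
    rw [hk, pow_succ, pow_mul, pow_two, hsq, one_pow, one_mul] at h1
    rw [← mul_assoc, mul_inv_eq_one] at h1
    -- `s (r s) = r`
    calc r * s = s * (s * (r * s)) := by rw [← mul_assoc s s, hss, one_mul]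
      _ = s * r := by rw [h1]
  have hc := comm_sq h0
  obtain ⟨g1, hg1⟩ := L.K.exists_lift (σ := s1) (by rw [Perm.mem_alternatingGroup]; decide)
  obtain ⟨g2, hg2⟩ := L.K.exists_lift (σ := s2) (by rw [Perm.mem_alternatingGroup]; decide)
  have h1 := step g1 s1 hg1 (by decide)
    (congrArg Subtype.val (fix_one L.K (e := resAut L.t φ ht) (fun g => h g _ rfl) hg1)) hc.1
  have h2 := step g2 s2 hg2 (by decide)
    (congrArg Subtype.val (fix_two L.K (e := resAut L.t φ ht) (fun g => h g _ rfl) hg2)) hc.2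
  have h3 : r = 1 := eq_one_of_comm hodd (hpow' w' hw) h0 h1 h2
  rcases (L.K.ker w').1 h3 with h4 | h4
  · exact congrArg Subtype.val h4
  · exfalso
    have h5 : w = L.t := (congrArg Subtype.val h4).trans L.hz
    have h6 := hpow w hw
    obtain ⟨k, hk⟩ := hodd
    rw [h5, hk, pow_succ, pow_mul, pow_two, L.t_mul_t, one_pow, one_mul] at h6
    exact L.t_ne h6

/-- a fixed point free involution inverts. -/
theorem fpf_inverts [Finite G] (K : Subgroup G) (j : G) (hj : j * j = 1) (hn : ∀ x ∈ K, j * x * j⁻¹ ∈ K)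
    (hf : ∀ x ∈ K, x * j = j * x → x = 1) : ∀ x ∈ K, j * x * j⁻¹ = x⁻¹ := by
  have hjj : j⁻¹ = j := inv_eq_of_mul_eq_one_left hj
  intro x hx
  let f : K → K := fun y => ⟨(y : G)⁻¹ * (j * y * j⁻¹), K.mul_mem (K.inv_mem y.2) (hn _ y.2)⟩
  have hinj : Function.Injective f := by
    intro y z hyz
    have h2 : (y : G)⁻¹ * (j * y * j⁻¹) = (z : G)⁻¹ * (j * z * j⁻¹) := congrArg Subtype.val hyz
    have h3 : (z : G) * (y : G)⁻¹ = 1 := by
      apply hf _ (K.mul_mem z.2 (K.inv_mem y.2))
      have h4 : (z : G) * (y : G)⁻¹ = j * ((z : G) * (y : G)⁻¹) * j⁻¹ := by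
        calc (z : G) * (y : G)⁻¹ = z * ((y : G)⁻¹ * (j * y * j⁻¹)) * (j * y * j⁻¹)⁻¹ := by group
          _ = z * ((z : G)⁻¹ * (j * z * j⁻¹)) * (j * y * j⁻¹)⁻¹ := by rw [h2]
          _ = _ := by group
      nth_rw 1 [h4]
      group
    exact Subtype.ext (mul_inv_eq_one.mp h3).symm
  obtain ⟨y, hy⟩ := Finite.surjective_of_injective hinj ⟨x, hx⟩
  have h2 : (y : G)⁻¹ * (j * y * j⁻¹) = x := congrArg Subtype.val hy
  rw [← h2]
  calc j * ((y : G)⁻¹ * (j * y * j⁻¹)) * j⁻¹ = j * (y : G)⁻¹ * (j * y * (j⁻¹ * j⁻¹)) := by group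
    _ = j * (y : G)⁻¹ * (j * y) := by rw [hjj, hj, mul_one]
    _ = j * (y : G)⁻¹ * (j⁻¹ * y) := by rw [hjj]
    _ = _ := by group

/-- **The outer case**, if `φ` fixes `t`. -/
theorem outer_aux [Finite G] (L : MT 8 G) (hI : ∀ L' : MT 8 G, EvenInner L') {φ : MulAut G} (hφ : φ * φ = 1)
    (hout : φ ∉ (MulAut.conj : G →* MulAut G).range) (ht : φ L.t = L.t) {W : Subgroup G}
    (hodd : Odd (Nat.card W)) (hW : ∀ w ∈ W, φ w = w) (hn : ∀ g, φ g = g → ∀ w ∈ W, g * w * g⁻¹ ∈ W) :
    W = ⊥ := by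
  -- every fixed involution acts fixed point freely
  have key : ∀ e : G, e * e = 1 → e ≠ 1 → φ e = e → ∀ w ∈ W, w * e = e * w → w = 1 := by
    intro e he he1 hfe
    obtain ⟨L1, rfl⟩ := L.exists_rebase he he1
    obtain ⟨L2, hL2, hc⟩ := exists_type L1 (fun L' _ => hI L') hφ hout hfe
    have h1 := cent_trivial L2 (by rw [hL2]; exact hfe) hc hodd hW hn
    rwa [hL2] at h1
  obtain ⟨L', hL', hc⟩ := exists_type L (fun L' _ => hI L') hφ hout ht
  obtain ⟨v, hv, hv1, hvt, hcomm, hfv⟩ := exists_v L' (by rw [hL']; exact ht) hc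
  rw [hL'] at hvt hcomm
  have htt := L.t_mul_t
  have h1 := fpf_inverts W L.t htt (hn _ ht) (key _ htt L.t_ne ht)
  have h2 := fpf_inverts W v hv (hn _ hfv) (key _ hv hv1 hfv)
  rw [Subgroup.eq_bot_iff_forall]
  intro w hw
  refine key (v * L.t) ?_ ?_ ?_ w hw ?_
  · calc v * L.t * (v * L.t) = v * (L.t * v) * L.t := by group
      _ = (v * v) * (L.t * L.t) := by rw [← hcomm]; group
      _ = 1 := by rw [hv, htt, mul_one]
  · intro h
    apply hvt
    rw [mul_eq_one_iff_eq_inv, L.t_inv] at h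
    exact h
  · rw [map_mul, hfv, ht]
  · have h3 : v * L.t * w * (v * L.t)⁻¹ = w := by
      calc v * L.t * w * (v * L.t)⁻¹ = v * (L.t * w * L.t⁻¹) * v⁻¹ := by group
        _ = w := by rw [h1 w hw, h2 _ (W.inv_mem hw), inv_inv]
    rw [mul_inv_eq_iff_eq_mul] at h3
    exact h3.symm

/-- A finite group of even order: an automorphism with `φ² = 1` fixes an involution. -/
theorem exists_fixed [Finite G] (h2 : 2 ∣ Nat.card G) {φ : MulAut G} (hφ : φ * φ = 1) :
    ∃ z : G, z * z = 1 ∧ z ≠ 1 ∧ φ z = z := by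
  classical
  have : Fintype G := Fintype.ofFinite G
  have : Fact (Nat.Prime 2) := ⟨Nat.prime_two⟩
  let α : Type _ := {x : G // x * x = 1}
  have h1 : Nat.card G ≡ Nat.card α [MOD 2] := by
    let f : Function.End G := fun x => x⁻¹
    have hf : f ^ 2 ^ 1 = 1 := by
      funext x
      show (x⁻¹)⁻¹ = x
      rw [inv_inv]
    have h3 := Equiv.Perm.card_fixedPoints_modEq (f := f) (p := 2) (n := 1) hf
    rw [Nat.card_eq_fintype_card, Nat.card_eq_fintype_card]
    refine h3.trans ?_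
    have h4 : Fintype.card f.fixedPoints = Fintype.card α := by
      refine Fintype.card_congr (Equiv.subtypeEquivRight fun x => ?_)
      show x⁻¹ = x ↔ x * x = 1
      rw [inv_eq_iff_mul_eq_one]
    rw [h4]
  have hφφ : ∀ x, φ (φ x) = x := fun x => by rw [← MulAut.mul_apply, hφ, MulAut.one_apply]
  let g : Function.End α := fun x => ⟨φ x.1, by rw [← map_mul, x.2, map_one]⟩
  have hg : g ^ 2 ^ 1 = 1 := by
    funext x
    exact Subtype.ext (hφφ x.1)
  have h3 := Equiv.Perm.card_fixedPoints_modEq (f := g) (p := 2) (n := 1) hg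
  rw [← Nat.card_eq_fintype_card, ← Nat.card_eq_fintype_card] at h3
  have h4 : 2 ∣ Nat.card g.fixedPoints :=
    ((h1.trans h3).dvd_iff (dvd_refl 2)).1 h2
  have h5 : (⟨1, mul_one 1⟩ : α) ∈ g.fixedPoints := Subtype.ext (map_one φ)
  have h6 : 1 < Nat.card g.fixedPoints := by
    have : Nonempty g.fixedPoints := ⟨⟨_, h5⟩⟩
    have : 0 < Nat.card g.fixedPoints := Nat.card_pos
    omega
  obtain ⟨a, b, hab⟩ := (Finite.one_lt_card_iff_nontrivial.1 h6).exists_pair_ne
  have key : ∀ a : g.fixedPoints, a.1.1 ≠ 1 → ∃ z : G, z * z = 1 ∧ z ≠ 1 ∧ φ z = z := fun a ha =>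
    ⟨a.1.1, a.1.2, ha, congrArg Subtype.val a.2⟩
  by_cases ha : a.1.1 = 1
  · by_cases hb : b.1.1 = 1
    · exact absurd (Subtype.ext (Subtype.ext (ha.trans hb.symm))) hab
    · exact key b hb
  · exact key a ha

/-- the centre is trivial -/
theorem eq_one_of_central (L : MT 8 G) {x : G} (hx : ∀ y, x * y = y * x) : x = 1 := by
  have hxt : x ∈ centralizer ({L.t} : Set G) := mem_centralizer_singleton_iff.2 (hx _)
  have h3 : (⟨x, hxt⟩ : centralizer ({L.t} : Set G)) ∈ center (centralizer ({L.t} : Set G)) :=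
    mem_center_iff.2 fun g => Subtype.ext (hx g).symm
  rcases (L.K.mem_center_iff (by simp)).1 h3 with h4 | h4
  · exact congrArg Subtype.val h4
  · exfalso
    have h5 : x = L.t := (congrArg Subtype.val h4).trans L.hz
    obtain ⟨v, hv1, hv2, hv3, -⟩ := exists_u L (Or.inl rfl)
    obtain ⟨g, hg⟩ := L.one v hv1 hv2
    rw [← h5, ← hx g, mul_inv_cancel_right] at hg
    exact hv3 (by rw [← hg, h5])

/-- `O(C(t)) = 1` -/
theorem eq_bot_of_normal_cent (L : MT 8 G) {W : Subgroup G} (hodd : Odd (Nat.card W))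
    (hW : ∀ w ∈ W, w * L.t = L.t * w) (hn : ∀ g, g * L.t = L.t * g → ∀ w ∈ W, g * w * g⁻¹ ∈ W) : W = ⊥ := by
  have h1 : W.subgroupOf (centralizer ({L.t} : Set G)) = ⊥ := by
    refine Cfsg.Agent.SporRec.LyFiveCov.eq_bot_of_normal L.K (by simp) ?_ ?_
    · exact ⟨fun w hw g => hn g (L.mem_iff.1 g.2) w hw⟩
    · intro h
      have h2 : L.t ∈ W := by
        rw [← L.hz]
        exact h
      have h6 : L.t ^ Nat.card W = 1 := by
        have := pow_card_eq_one' (x := (⟨L.t, h2⟩ : W))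
        exact congrArg Subtype.val this
      obtain ⟨k, hk⟩ := hodd
      rw [hk, pow_succ, pow_mul, pow_two, L.t_mul_t, one_pow, one_mul] at h6
      exact L.t_ne h6
  rw [Subgroup.eq_bot_iff_forall]
  intro w hw
  have h2 : (⟨w, L.mem_iff.2 (hW w hw)⟩ : centralizer ({L.t} : Set G)) ∈ W.subgroupOf (centralizer ({L.t} : Set G)) := hw
  rw [h1, mem_bot] at h2
  exact congrArg Subtype.val h2

/-- **The fixed points of an automorphism with `φ² = 1` have no nontrivial normal subgroup of odd order.** -/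
theorem fixCore [Finite G] [IsSimpleGroup G] (L : MT 8 G) (hcard : Nat.card G = 898128000) : OfFix.FixCore G := by
  intro φ hφ W hodd hW hn
  have hI : ∀ L' : MT 8 G, EvenInner L' := fun L' =>
    Cfsg.Agent.TypeM.OuterInst.evenInner L' (Or.inl rfl) (gen L' (Or.inl ⟨rfl, hcard⟩))
  by_cases hin : φ ∈ (MulAut.conj : G →* MulAut G).range
  · obtain ⟨a, rfl⟩ := hin
    have haa : a * a = 1 := by
      refine eq_one_of_central L fun y => ?_
      have h1 := DFunLike.congr_fun hφ y
      rw [← map_mul, MulAut.conj_apply, MulAut.one_apply, mul_inv_eq_iff_eq_mul] at h1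
      exact h1
    by_cases ha : a = 1
    · -- `W` is normal
      have h1 : W.Normal := ⟨fun w hw g => hn g (by rw [ha, map_one, MulAut.one_apply]) w hw⟩
      rcases h1.eq_bot_or_eq_top with h2 | h2
      · exact h2
      · exfalso
        rw [h2, Subgroup.card_top, hcard] at hodd
        exact absurd hodd (by decide)
    · obtain ⟨L', rfl⟩ := L.exists_rebase haa ha
      refine eq_bot_of_normal_cent L' hodd (fun w hw => ?_) fun g hg => hn g ?_
      · have h1 := hW w hw
        rw [MulAut.conj_apply, mul_inv_eq_iff_eq_mul] at h1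
        exact h1.symm
      · rw [MulAut.conj_apply, ← hg, mul_inv_cancel_right]
  · obtain ⟨z, hz, hz1, hzf⟩ := exists_fixed (G := G) (by rw [hcard]; norm_num) hφ
    obtain ⟨L', rfl⟩ := L.exists_rebase hz hz1
    exact outer_aux L' hI hφ hin hzf hodd hW hn

/-- automorphisms of odd order are inner -/
theorem inner_of_odd [Finite G] (L : MT 8 G) (hcard : Nat.card G = 898128000) (α : MulAut G) (hα : Odd (orderOf α)) :
    α ∈ (MulAut.conj : G →* MulAut G).range := by
  by_contra hout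
  have h1 : α * α ∈ (MulAut.conj : G →* MulAut G).range :=
    Cfsg.Agent.TypeM.OuterInst.mul_mem_range L (Or.inl rfl) (gen L (Or.inl ⟨rfl, hcard⟩)) hout hout
  obtain ⟨k, hk⟩ := hα
  apply hout
  have h2 : α = (α * α) ^ (k + 1) := by
    rw [← pow_two, ← pow_mul, show 2 * (k + 1) = 2 * k + 1 + 1 by ring, pow_succ, ← hk, pow_orderOf_eq_one, one_mul]
  rw [h2]
  exact Subgroup.pow_mem _ h1 _

end Cfsg.Agent.UGT.End.McLOuter
end

private theorem dce_7d38faff8533 : _root_.True := by
  try have : _root_.True := by simp only [_root_.Cfsg.Agent.UGT.End.McLPerm.s2.eq_1]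
  try have : _root_.True := by simp only [_root_.Cfsg.Agent.UGT.End.McLPerm.s1.eq_1]
  exact _root_.True.intro
end
end
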